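import Groth.Agent.IntMultCartier.Basic
import Groth.Agent.VarDim.Local
import Groth.Agent.DimFormula.Jacobson
import Mathlib

/-!
# Dimensions on a variety and heights of stalks of prime ideal sheaves
-/

set_option autoImplicit false
set_option linter.style.haveILetI false
set_option maxHeartbeats 800000
universe u

open CategoryTheory AlgebraicGeometry TopologicalSpace Order Groth.Agent.VarDim

namespace Groth.Agent.IntMultCartier

variable {k : Type u} [Field k] {X : Scheme.{u}} (f : X ⟶ Spec (CommRingCat.of k)) [LocallyOfFiniteType f]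

/-- The dimension of the closure of a point is the transcendence degree of its residue field. -/
theorem dim_closure (η : X) :
    topologicalKrullDim ↥(closure ({η} : Set X)) = ((deg f η : ℕ) : WithBot ℕ∞) := by
  have h : closure ({η} : Set X) = Set.Iic η :=
    Set.ext fun t => specializes_iff_mem_closure.symm
  haveI : QuasiSober ↥(closure ({η} : Set X)) := isClosed_closure.isClosedEmbedding_subtypeVal.quasiSober
  rw [DimFormula.topologicalKrullDim_subset, h, ← height_eq_krullDim_Iic, height_eq_deg f η]
  rfl

theorem dim_support (I : X.IdealSheafData) [IsIntegral I.subscheme] {r : ℕ}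
    (hr : topologicalKrullDim I.support = r) (η : X) (hη : IsGenericPoint η (I.support : Set X)) :
    deg f η = r := by
  have h := dim_closure f η
  rw [hη.def] at h
  exact_mod_cast (h.symm.trans hr)

variable [IsIntegral X] {n : ℕ} (hn : topologicalKrullDim X = n)
include f hn

/-- `dim O_{X,x} + trdeg κ(x) = dim X`. -/
theorem dim_stalk (x : X) :
    ∃ b : ℕ, ringKrullDim (X.presheaf.stalk x) = b ∧ deg f x + b = n := by
  obtain ⟨b, hb, ⟨η, hη, hηd⟩, hmax⟩ := exists_deg_add_stalk f x
  refine ⟨b, hb, le_antisymm ?_ ?_⟩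
  · have h := topologicalKrullDim_subspace_le X (closure ({η} : Set X))
    rw [dim_closure f η, hn, hηd] at h
    exact_mod_cast h
  · have h := dim_closure f (genericPoint X)
    rw [genericPoint_closure,
      ← (Homeomorph.Set.univ X).symm.isHomeomorph.topologicalKrullDim_eq, hn] at h
    have h' : n = deg f (genericPoint X) := by exact_mod_cast h
    rw [h']
    exact hmax _ (genericPoint_specializes x)

/-- The height of the stalk of the ideal of an integral closed subscheme of dimension `r` is `n - r`. -/
theorem height_stalkIdeal (I : X.IdealSheafData) [IsIntegral I.subscheme] {r : ℕ}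
    (hr : topologicalKrullDim I.support = r) {x : X} (hx : x ∈ I.support) :
    ∃ a : ℕ, (IntMult.stalkIdeal I x).height = a ∧ a + r = n := by
  obtain ⟨W, hW, hxW, -⟩ := exists_isAffineOpen_mem_and_subset (U := (⊤ : X.Opens)) (x := x) trivial
  let U : X.affineOpens := ⟨W, hW⟩
  haveI hJ : (I.ideal U).IsPrime := ideal_isPrime I U hx hxW
  let p : PrimeSpectrum Γ(X, (U : X.Opens)) := ⟨I.ideal U, hJ⟩
  have hp : hW.fromSpec p ∈ (U : X.Opens) := VarDim.fromSpec_mem hW p
  have hgen : IsGenericPoint (hW.fromSpec p) (I.support : Set X) := by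
    have hirr : IsIrreducible (I.support : Set X) := by
      rw [← I.range_subschemeι, ← Set.image_univ]
      exact (IrreducibleSpace.isIrreducible_univ I.subscheme).image _ I.subschemeι.continuous.continuousOn
    have hη := hirr.isGenericPoint_genericPoint I.support.isClosed
    set η := hirr.genericPoint
    have hpI : hW.fromSpec p ∈ I.support := (fromSpec_mem_support_iff I U p).2 le_rfl
    have hsp : η ⤳ hW.fromSpec p := hη.specializes hpI
    obtain ⟨q, hq⟩ := VarDim.exists_fromSpec_eq hW (hsp.mem_open (U : X.Opens).2 hp)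
    rw [← hq, VarDim.fromSpec_specializes_iff hW q p] at hsp
    have hqI : I.ideal U ≤ q.asIdeal := (fromSpec_mem_support_iff I U q).1 (hq ▸ hη.mem)
    rw [show p = q from le_antisymm hqI hsp, hq]
    exact hη
  have hdr := dim_support f I hr _ hgen
  obtain ⟨a, ha, hadd⟩ := dim_stalk f hn (hW.fromSpec p)
  refine ⟨a, ?_, by omega⟩
  rw [stalkIdeal_eq I U hxW]
  letI : Algebra Γ(X, (U : X.Opens)) (X.presheaf.stalk x) := (X.presheaf.germ U x hxW).hom.toAlgebra
  haveI : IsLocalization.AtPrime (X.presheaf.stalk x) (hW.primeIdealOf ⟨x, hxW⟩).asIdeal :=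
    hW.isLocalization_stalk ⟨x, hxW⟩
  letI : Algebra Γ(X, (U : X.Opens)) (X.presheaf.stalk (hW.fromSpec p)) :=
    (X.presheaf.germ U _ hp).hom.toAlgebra
  have hpeq : hW.primeIdealOf ⟨hW.fromSpec p, hp⟩ = p :=
    hW.fromSpec.isOpenEmbedding.injective (hW.fromSpec_primeIdealOf _)
  haveI : IsLocalization.AtPrime (X.presheaf.stalk (hW.fromSpec p)) (I.ideal U) := by
    have h := hW.isLocalization_stalk ⟨hW.fromSpec p, hp⟩
    rw [hpeq] at h
    exact h
  have h1 : ((I.ideal U).height : WithBot ℕ∞) = (a : ℕ) :=
    (IsLocalization.AtPrime.ringKrullDim_eq_height (I.ideal U) (X.presheaf.stalk (hW.fromSpec p))).symm.trans ha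
  have hdisj : Disjoint ((hW.primeIdealOf ⟨x, hxW⟩).asIdeal.primeCompl : Set Γ(X, (U : X.Opens))) (I.ideal U) :=
    Set.disjoint_left.2 fun a ha ha' => ha (ideal_le_primeIdealOf I U hxW hx ha')
  rw [← IsLocalization.height_map_of_disjoint (S := X.presheaf.stalk x) (hW.primeIdealOf ⟨x, hxW⟩).asIdeal.primeCompl
    (I.ideal U) hdisj] at h1
  exact_mod_cast h1

end Groth.Agent.IntMultCartier
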