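import Groth.Prelude.Def_IntMult
import Mathlib
import Groth.Agent.S16238
import Groth.Agent.CAlgOdd.TorSymm.Main

/-!
# Stalks of ideal sheaves, and the Tor formula for a principal ideal
-/

set_option autoImplicit false
set_option linter.style.haveILetI false
set_option maxHeartbeats 800000
universe u

open CategoryTheory AlgebraicGeometry TopologicalSpace
open scoped TensorProduct

namespace Groth.Agent.IntMultCartier

section Stalk

variable {X : Scheme.{u}} (I : X.IdealSheafData) {x : X} (U : X.affineOpens) (hx : x ∈ (U : X.Opens))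

theorem map_germ_of_le {V : X.affineOpens} (h : V ≤ U) (hxV : x ∈ (V : X.Opens)) :
    (I.ideal V).map (X.presheaf.germ V x hxV).hom = (I.ideal U).map (X.presheaf.germ U x hx).hom := by
  rw [← I.map_ideal h, Ideal.map_map]
  refine congrArg (fun φ => Ideal.map φ (I.ideal U)) ?_
  rw [← CommRingCat.hom_comp]
  congr 1
  exact X.presheaf.germ_res _ _ _

/-- The stalk of an ideal sheaf is computed on any affine neighbourhood. -/
theorem stalkIdeal_eq : IntMult.stalkIdeal I x = (I.ideal U).map (X.presheaf.germ U x hx).hom := by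
  refine le_antisymm (iSup₂_le fun U' hx' => ?_)
    (le_iSup₂ (f := fun (U' : X.affineOpens) hx' => (I.ideal U').map (X.presheaf.germ U' x hx').hom) U hx)
  obtain ⟨W, hW, hxW, hWle⟩ := exists_isAffineOpen_mem_and_subset
    (U := (U : X.Opens) ⊓ (U' : X.Opens)) (x := x) ⟨hx, hx'⟩
  have h1 := map_germ_of_le I U hx (V := ⟨W, hW⟩) (fun a ha => (hWle ha).1) hxW
  have h2 := map_germ_of_le I U' hx' (V := ⟨W, hW⟩) (fun a ha => (hWle ha).2) hxW
  exact le_of_eq (h2.symm.trans h1)

/-- An integral closed subscheme has prime ideal on an affine open meeting it. -/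
theorem ideal_isPrime [IsIntegral I.subscheme] (hxI : x ∈ I.support) (hxU : x ∈ (U : X.Opens)) :
    (I.ideal U).IsPrime := by
  have hx' : x ∈ Set.range I.subschemeι := by rw [I.range_subschemeι]; exact hxI
  obtain ⟨y, hy⟩ := hx'
  haveI : Nonempty (I.subschemeι ⁻¹ᵁ (U : X.Opens)) := ⟨⟨y, show I.subschemeι y ∈ (U : X.Opens) from hy.symm ▸ hxU⟩⟩
  haveI : IsDomain (Γ(X, (U : X.Opens)) ⧸ I.ideal U) :=
    (I.subschemeObjIso U).commRingCatIsoToRingEquiv.symm.toMulEquiv.isDomain _
  exact (Ideal.Quotient.isDomain_iff_prime _).1 inferInstance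

/-- Points of the support on an affine open. -/
theorem fromSpec_mem_support_iff (p : PrimeSpectrum Γ(X, (U : X.Opens))) :
    U.2.fromSpec p ∈ I.support ↔ I.ideal U ≤ p.asIdeal := by
  have h : U.2.fromSpec p ∈ (U : X.Opens) := by
    have := Set.mem_range_self (f := U.2.fromSpec) p
    rw [U.2.range_fromSpec] at this
    exact this
  rw [I.mem_support_iff_of_mem h]
  have e := U.2.fromSpec_image_zeroLocus (I.ideal U : Set Γ(X, (U : X.Opens)))
  constructor
  · intro hp
    obtain ⟨q, hq, hqp⟩ := (Set.ext_iff.mp e (U.2.fromSpec p)).2 ⟨hp, h⟩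
    obtain rfl := U.2.fromSpec.isOpenEmbedding.injective hqp
    exact hq
  · intro hp
    exact ((Set.ext_iff.mp e (U.2.fromSpec p)).1 ⟨p, hp, rfl⟩).1

theorem ideal_le_primeIdealOf (hxI : x ∈ I.support) :
    I.ideal U ≤ (U.2.primeIdealOf ⟨x, hx⟩).asIdeal := by
  refine (fromSpec_mem_support_iff I U _).1 ?_
  rw [U.2.fromSpec_primeIdealOf]
  exact hxI

theorem stalkIdeal_isPrime [IsIntegral I.subscheme] (hxI : x ∈ I.support) :
    (IntMult.stalkIdeal I x).IsPrime := by
  obtain ⟨W, hW, hxW, -⟩ := exists_isAffineOpen_mem_and_subset (U := (⊤ : X.Opens)) (x := x) trivial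
  let U : X.affineOpens := ⟨W, hW⟩
  rw [stalkIdeal_eq I U hxW]
  letI : Algebra Γ(X, (U : X.Opens)) (X.presheaf.stalk x) := (X.presheaf.germ U x hxW).hom.toAlgebra
  haveI : IsLocalization.AtPrime (X.presheaf.stalk x) (hW.primeIdealOf ⟨x, hxW⟩).asIdeal :=
    hW.isLocalization_stalk ⟨x, hxW⟩
  refine IsLocalization.isPrime_of_isPrime_disjoint (hW.primeIdealOf ⟨x, hxW⟩).asIdeal.primeCompl
    (X.presheaf.stalk x) (I.ideal U) (ideal_isPrime I U hxI hxW) ?_
  exact Set.disjoint_left.2 fun a ha ha' => ha (ideal_le_primeIdealOf I U hxW hxI ha')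

-- Containment of stalks of two integral closed subschemes descends to an affine open. -/
include hx in
theorem ideal_le_of_stalkIdeal_le (J : X.IdealSheafData) [IsIntegral J.subscheme] (hxJ : x ∈ J.support)
    (h : IntMult.stalkIdeal I x ≤ IntMult.stalkIdeal J x) : I.ideal U ≤ J.ideal U := by
  letI : Algebra Γ(X, (U : X.Opens)) (X.presheaf.stalk x) := (X.presheaf.germ U x hx).hom.toAlgebra
  haveI : IsLocalization.AtPrime (X.presheaf.stalk x) (U.2.primeIdealOf ⟨x, hx⟩).asIdeal :=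
    U.2.isLocalization_stalk ⟨x, hx⟩
  rw [stalkIdeal_eq I U hx, stalkIdeal_eq J U hx, Ideal.map_le_iff_le_comap] at h
  refine h.trans (le_of_eq ?_)
  exact IsLocalization.comap_map_of_isPrime_disjoint (U.2.primeIdealOf ⟨x, hx⟩).asIdeal.primeCompl
    (X.presheaf.stalk x) (ideal_isPrime J U hxJ hx)
    (Set.disjoint_left.2 fun a ha ha' => ha (ideal_le_primeIdealOf J U hx hxJ ha'))

end Stalk

section Chi

variable {A : Type u} [CommRing A]

theorem length_tensor_quot (I J : Ideal A) :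
    Module.length A ((A ⧸ I) ⊗[A] (A ⧸ J)) = Module.length A (A ⧸ (I ⊔ J)) := by
  have e1 : ((A ⧸ I) ⊗[A] (A ⧸ J)) ≃ₗ[A] (A ⧸ J) ⧸ (I • ⊤ : Submodule A (A ⧸ J)) :=
    TensorProduct.quotTensorEquivQuotSMul (A ⧸ J) I
  have e2 : (I • ⊤ : Submodule A (A ⧸ J)) = Submodule.map (Submodule.mkQ J) I := by
    rw [← Submodule.range_mkQ J, LinearMap.range_eq_map, ← Submodule.map_smul'']
    congr 1
    rw [smul_eq_mul, Ideal.mul_top]
  have e3 : ((A ⧸ J) ⧸ (I • ⊤ : Submodule A (A ⧸ J))) ≃ₗ[A] A ⧸ (J ⊔ I) :=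
    (Submodule.quotEquivOfEq _ _ e2).trans (Submodule.quotientQuotientEquivQuotientSup J I)
  rw [(e1.trans (e3.trans (Submodule.quotEquivOfEq _ _ (sup_comm J I)))).length_eq]

/-- `χ(A/I, A/J)` when all higher Tor's vanish. -/
theorem chi_eq_of_isZero (I J : Ideal A)
    (h : ∀ i : ℕ, 1 ≤ i → Limits.IsZero (((Tor (ModuleCat.{u} A) i).obj
        (ModuleCat.of A (A ⧸ I))).obj (ModuleCat.of A (A ⧸ J)))) :
    IntMult.chi A (A ⧸ I) (A ⧸ J) = ((Module.length A (A ⧸ (I ⊔ J))).toNat : ℤ) := by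
  unfold IntMult.chi
  rw [finsum_eq_single _ 0 fun i hi => ?_]
  · rw [pow_zero, one_mul, ← length_tensor_quot I J]
    let e : (((Tor (ModuleCat.{u} A) 0).obj (ModuleCat.of A (A ⧸ I))).obj (ModuleCat.of A (A ⧸ J))) ≅
        ((MonoidalCategory.tensoringLeft (ModuleCat.{u} A)).obj (ModuleCat.of A (A ⧸ I))).obj
          (ModuleCat.of A (A ⧸ J)) :=
      ((MonoidalCategory.tensoringLeft (ModuleCat.{u} A)).obj
        (ModuleCat.of A (A ⧸ I))).leftDerivedZeroIsoSelf.app _
    exact congrArg (fun z : ℕ∞ => (z.toNat : ℤ)) e.toLinearEquiv.length_eq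
  · haveI := ModuleCat.subsingleton_of_isZero (h i (by omega))
    simp

/-- `χ(A/I, A/(g))` for `g` regular on `A` and on `A/I`. -/
theorem chi_span_singleton [IsLocalRing A] [IsNoetherianRing A] (I : Ideal A) (g : A)
    (hI : I ⊔ Ideal.span {g} ≠ ⊤) (hg : IsSMulRegular A g)
    (hgI : IsSMulRegular (A ⧸ I) (Ideal.Quotient.mk I g)) :
    IntMult.chi A (A ⧸ I) (A ⧸ Ideal.span {g}) =
      ((Module.length A (A ⧸ (I ⊔ Ideal.span {g}))).toNat : ℤ) := by
  refine chi_eq_of_isZero I _ fun i hi => ?_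
  have hr : Set.range (fun _ : Fin 1 => g) = {g} := Set.range_const
  have hl : List.ofFn (fun _ : Fin 1 => g) = [g] := by simp
  have h := (Groth.Agent.S16238.result A 1 (fun _ => g)
    (hl.symm ▸ (RingTheory.Sequence.isWeaklyRegular_singleton_iff A g).2 hg) I
    (by rw [hr, sup_comm]; exact hI)).1 (by
      rw [show List.ofFn (fun i : Fin 1 => Ideal.Quotient.mk I g) = [Ideal.Quotient.mk I g] by simp]
      exact (RingTheory.Sequence.isWeaklyRegular_singleton_iff _ _).2 hgI) i hi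
  rw [hr] at h
  obtain ⟨e⟩ := Groth.Agent.CAlgOdd.TorSymm.nonempty_flip (R := A) i
  exact h.of_iso ((e.app (ModuleCat.of A (A ⧸ I))).app (ModuleCat.of A (A ⧸ Ideal.span {g})))

end Chi

end Groth.Agent.IntMultCartier
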