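import Groth.Agent.IntMultCartier.Transversal
import Groth.Agent.CAlgOdd.Acyclicity
import Groth.Agent.LC.PdRegular
import Groth.Agent.FlatLoc6.NormFlat
import Groth.Agent.Alg6.LocLoc
import Groth.Agent.S14422
import Groth.Agent.S3527
import Mathlib

/-!
# Vanishing of higher `Tor` for properly intersecting Cohen–Macaulay quotients of a regular local ring
-/

set_option autoImplicit false
set_option linter.style.haveILetI false
set_option maxHeartbeats 800000
universe u

open CategoryTheory IsLocalRing MonoidalCategory Groth.Agent.CAlgOdd.Acyclicity Groth.Agent.RegLoc6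
open scoped TensorProduct

namespace Groth.Agent.IntMultCartier

section Torsion

variable {A : Type u} [CommRing A]

/-- The annihilator of the first argument kills `Tor`. -/
theorem smul_tor_eq_zero {N M : ModuleCat.{u} A} (x : A) (hx : ∀ n : N, x • n = 0) (i : ℕ)
    (z : (((Tor (ModuleCat.{u} A) i).obj N).obj M : ModuleCat.{u} A)) : x • z = 0 := by
  let Q : ProjectiveResolution M := ProjectiveResolution.of _
  let G : ModuleCat.{u} A ⥤ ModuleCat.{u} A := (tensoringLeft (ModuleCat.{u} A)).obj N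
  let C := (G.mapHomologicalComplex (ComplexShape.down ℕ)).obj Q.complex
  let e : ((Tor (ModuleCat.{u} A) i).obj N).obj M ≅ C.homology i := Q.isoLeftDerivedObj G i
  have hX : ∀ t : C.X i, x • t = 0 := fun t => by
    refine TensorProduct.induction_on (motive := fun t : (N : Type u) ⊗[A] (Q.complex.X i : Type u) => x • t = 0)
      t (smul_zero x) (fun a b => ?_) (fun a b ha hb => by rw [smul_add, ha, hb, add_zero])
    rw [TensorProduct.smul_tmul', hx, TensorProduct.zero_tmul]
  have hH : ∀ h : C.homology i, x • h = 0 := fun h => by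
    obtain ⟨c, rfl⟩ := (ModuleCat.epi_iff_surjective (C.homologyπ i)).1 inferInstance h
    have hc : x • c = 0 := (ModuleCat.mono_iff_injective (C.iCycles i)).1 inferInstance (by
      rw [map_smul, map_zero, hX])
    rw [← map_smul, hc, map_zero]
  apply e.toLinearEquiv.injective
  rw [map_smul, map_zero, hH]

theorem smul_tor_eq_zero' {N M : ModuleCat.{u} A} (x : A) (hx : ∀ m : M, x • m = 0) (i : ℕ)
    (z : (((Tor (ModuleCat.{u} A) i).obj N).obj M : ModuleCat.{u} A)) : x • z = 0 := by
  obtain ⟨e⟩ := Groth.Agent.CAlgOdd.TorSymm.nonempty_flip (R := A) i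
  let e' : ((Tor (ModuleCat.{u} A) i).obj N).obj M ≅ ((Tor (ModuleCat.{u} A) i).obj M).obj N :=
    (e.app N).app M
  apply e'.toLinearEquiv.injective
  rw [map_smul, map_zero, smul_tor_eq_zero x hx]

/-- Injectivity of a tensored map from that of `Tor₀`. -/
theorem injective_lTensor_of_mono_tor_map (N : ModuleCat.{u} A) {X Y : ModuleCat.{u} A} (f : X ⟶ Y)
    [Mono (((Tor (ModuleCat.{u} A) 0).obj N).map f)] : Function.Injective (f.hom.lTensor (N : Type u)) := by
  let G : ModuleCat.{u} A ⥤ ModuleCat.{u} A := (tensoringLeft (ModuleCat.{u} A)).obj N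
  let η : G.leftDerived 0 ≅ G := ((tensoringLeft (ModuleCat.{u} A)).obj N).leftDerivedZeroIsoSelf
  haveI : Mono ((G.leftDerived 0).map f) := inferInstanceAs (Mono (((Tor (ModuleCat.{u} A) 0).obj N).map f))
  have h : G.map f = η.inv.app X ≫ (G.leftDerived 0).map f ≫ η.hom.app Y := by
    rw [η.hom.naturality f, Iso.inv_hom_id_app_assoc]
  show Function.Injective ((G.map f).hom)
  rw [h, ModuleCat.hom_comp, ModuleCat.hom_comp, LinearMap.coe_comp, LinearMap.coe_comp]
  exact (((η.app Y).toLinearEquiv.injective).comp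
    ((ModuleCat.mono_iff_injective ((G.leftDerived 0).map f)).1 this)).comp (η.app X).symm.toLinearEquiv.injective

variable [IsLocalRing A]

theorem eq_zero_of_depthGE_one {X : ModuleCat.{u} A} (h : DepthGE 1 X) :
    ∀ (n : ℕ) (z : X), (∀ y ∈ maximalIdeal A ^ n, y • z = 0) → z = 0 := by
  intro n
  induction n with
  | zero =>
    intro z hz
    simpa using hz 1 (by simp)
  | succ n ih =>
    intro z hz
    have hm : ∀ y ∈ maximalIdeal A, y • z = 0 := fun y hy => ih _ fun w hw => by
      rw [smul_smul]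
      exact hz _ (by rw [pow_succ]; exact Ideal.mul_mem_mul hw hy)
    haveI := h 0 one_pos
    haveI : Subsingleton (ModuleCat.of A (A ⧸ maximalIdeal A) ⟶ X) := Abelian.Ext.addEquiv₀.symm.subsingleton
    let φ : (A ⧸ maximalIdeal A) →ₗ[A] X :=
      Submodule.liftQ _ (LinearMap.toSpanSingleton A X z) fun y hy => hm y hy
    have h0 : φ (Submodule.Quotient.mk 1) = 0 := by
      rw [show φ = 0 from congrArg ModuleCat.Hom.hom (Subsingleton.elim (ModuleCat.ofHom φ) 0)]
      rfl
    exact (((Submodule.liftQ_apply _ _ _).trans (one_smul A z)).symm).trans h0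

end Torsion

section Vanish

variable {A : Type u} [CommRing A] [IsLocalRing A] [IsNoetherianRing A]

/-- Dimension shifting for `Tor` with torsion homology. -/
theorem tor_vanish (J : Ideal A) (hJ : ∃ n : ℕ, maximalIdeal A ^ n ≤ J) :
    ∀ (e : ℕ) (M : ModuleCat.{u} A), Module.Finite A M → PdLE A e M →
      ∀ (N : ModuleCat.{u} A), Module.Finite A N → ∀ (k : ℕ), e ≤ k → DepthGE k N →
      (∀ i, 1 ≤ i → ∀ x ∈ J, ∀ z : (((Tor (ModuleCat.{u} A) i).obj N).obj M : ModuleCat.{u} A), x • z = 0) →
      (∀ i, 1 ≤ i → Limits.IsZero (((Tor (ModuleCat.{u} A) i).obj N).obj M)) ∧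
        DepthGE (k - e) (ModuleCat.of A ((N : Type u) ⊗[A] (M : Type u))) := by
  intro e
  induction e with
  | zero =>
    intro M _ hM N _ k _ hN _
    haveI : Module.Projective A M := pdLE_zero_iff.1 hM
    refine ⟨fun i hi => ModuleCat.isZero_iff_subsingleton.2 (Groth.Agent.S3527.result A M N i hi).2, ?_⟩
    haveI : Module.Free A M := Module.free_of_flat_of_isLocalRing
    obtain ⟨q, ⟨b⟩⟩ : ∃ q : ℕ, Nonempty (Module.Basis (Fin q) A M) :=
      ⟨_, ⟨(Module.Free.chooseBasis A M).reindex (Fintype.equivFin (Module.Free.ChooseBasisIndex A M))⟩⟩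
    let e' : ((N : Type u) ⊗[A] (M : Type u)) ≃ₗ[A] (Fin q → N) :=
      (TensorProduct.congr (LinearEquiv.refl A N) b.equivFun).trans (TensorProduct.piScalarRight A A N (Fin q))
    rw [Nat.sub_zero, depthGE_iff k (ModuleCat.of A ((N : Type u) ⊗[A] (M : Type u)))]
    rw [depthGE_iff] at hN
    cases q with
    | zero =>
      haveI : Subsingleton ((N : Type u) ⊗[A] (M : Type u)) := e'.injective.subsingleton
      exact (depthGE_iff k (ModuleCat.of A ((N : Type u) ⊗[A] (M : Type u)))).1
        (depthGE_of_isZero k (ModuleCat.isZero_of_subsingleton _))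
    | succ q =>
      show (k : ℕ∞) ≤ LocCoh.depth A ((N : Type u) ⊗[A] (M : Type u))
      rw [Groth.Agent.Hensel.depth_congr e', Groth.Agent.FlatLoc6.depth_pi]
      exact hN
  | succ e ih =>
    intro M _ hM N _ k hk hN hann
    obtain ⟨q, g, hg⟩ := exists_presentation (R := A) (M := M)
    have hK := (pdLE_succ_iff g hg).1 hM
    let S : ShortComplex (ModuleCat.{u} A) := ShortComplex.mk (X₁ := ModuleCat.of A (LinearMap.ker g))
      (X₂ := ModuleCat.of A (Fin q → A)) (X₃ := M) (ModuleCat.ofHom (LinearMap.ker g).subtype)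
      (ModuleCat.ofHom g) (ModuleCat.hom_ext (LinearMap.ext fun z => z.2))
    have hS : S.ShortExact :=
      { exact := (ShortComplex.ShortExact.moduleCat_exact_iff_function_exact S).2
          (LinearMap.exact_subtype_ker_map g)
        mono_f := (ModuleCat.mono_iff_injective _).2 Subtype.val_injective
        epi_g := (ModuleCat.epi_iff_surjective _).2 hg }
    have hF : ∀ i, 1 ≤ i → Limits.IsZero (((Tor (ModuleCat.{u} A) i).obj N).obj S.X₂) := fun i hi =>
      ModuleCat.isZero_iff_subsingleton.2 (Groth.Agent.S3527.result A (Fin q → A) N i hi).2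
    have hiso : ∀ i, 1 ≤ i → Nonempty (((Tor (ModuleCat.{u} A) (i + 1)).obj N).obj M ≅
        ((Tor (ModuleCat.{u} A) i).obj N).obj S.X₁) := fun i hi => by
      obtain ⟨-, -, δ, w₁, w₂, h₁, h₂⟩ := Groth.Agent.S14422.result A N S hS i
      haveI : Mono δ := h₁.mono_g ((hF (i + 1) (by omega)).eq_of_src _ _)
      haveI : Epi δ := h₂.epi_f ((hF i hi).eq_of_tgt _ _)
      haveI : IsIso δ := isIso_of_mono_of_epi δ
      exact ⟨asIso δ⟩
    haveI : Module.Finite A S.X₁ := Module.Finite.iff_fg.2 (IsNoetherian.noetherian _)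
    obtain ⟨hT, hd⟩ := ih S.X₁ inferInstance hK N inferInstance k (by omega) hN fun i hi x hx z => by
      obtain ⟨ε⟩ := hiso i hi
      apply ε.symm.toLinearEquiv.injective
      rw [map_smul, map_zero, hann (i + 1) (by omega) x hx]
    have h1 : Limits.IsZero (((Tor (ModuleCat.{u} A) 1).obj N).obj M) := by
      obtain ⟨-, -, δ, w₁, w₂, h₁, -⟩ := Groth.Agent.S14422.result A N S hS 0
      haveI : Mono δ := h₁.mono_g ((hF 1 le_rfl).eq_of_src _ _)
      let e0 : ((Tor (ModuleCat.{u} A) 0).obj N).obj S.X₁ ≅ ModuleCat.of A ((N : Type u) ⊗[A] (S.X₁ : Type u)) :=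
        ((tensoringLeft (ModuleCat.{u} A)).obj N).leftDerivedZeroIsoSelf.app _
      rw [ModuleCat.isZero_iff_subsingleton]
      refine subsingleton_of_forall_eq 0 fun z => ?_
      obtain ⟨n, hn⟩ := hJ
      have h0 : e0.hom.hom (δ.hom z) = 0 := eq_zero_of_depthGE_one
        (fun t ht => hd t (by omega)) n _ fun y hy => by
          rw [← map_smul, ← map_smul, hann 1 le_rfl y (hn hy), map_zero, map_zero]
      have h0' : δ.hom z = 0 := e0.toLinearEquiv.injective (h0.trans (map_zero _).symm)
      exact (ModuleCat.mono_iff_injective δ).1 inferInstance (h0'.trans (map_zero _).symm)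
    refine ⟨fun i hi => ?_, ?_⟩
    · obtain rfl | ⟨j, hj, rfl⟩ : i = 1 ∨ ∃ j, 1 ≤ j ∧ i = j + 1 := by
        rcases Nat.lt_or_ge i 2 with h | h
        · exact Or.inl (by omega)
        · exact Or.inr ⟨i - 1, by omega, by omega⟩
      · exact h1
      · obtain ⟨ε⟩ := hiso j hj
        exact (hT j hj).of_iso ε
    · -- the tensored sequence stays exact
      have hinj : Function.Injective ((LinearMap.ker g).subtype.lTensor (N : Type u)) := by
        obtain ⟨-, -, δ, w₁, w₂, -, h₂⟩ := Groth.Agent.S14422.result A N S hS 0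
        haveI : Mono (((Tor (ModuleCat.{u} A) 0).obj N).map S.f) :=
          h₂.mono_g (h1.eq_of_src _ _)
        exact injective_lTensor_of_mono_tor_map N S.f
      let T : ShortComplex (ModuleCat.{u} A) := ShortComplex.mk
        (ModuleCat.ofHom ((LinearMap.ker g).subtype.lTensor (N : Type u)))
        (ModuleCat.ofHom (g.lTensor (N : Type u)))
        (ModuleCat.hom_ext ((lTensor_exact (N : Type u) (LinearMap.exact_subtype_ker_map g) hg).linearMap_comp_eq_zero))
      have hT' : T.ShortExact :=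
        { exact := (ShortComplex.ShortExact.moduleCat_exact_iff_function_exact T).2
            (lTensor_exact (N : Type u) (LinearMap.exact_subtype_ker_map g) hg)
          mono_f := (ModuleCat.mono_iff_injective _).2 hinj
          epi_g := (ModuleCat.epi_iff_surjective _).2 (LinearMap.lTensor_surjective (N : Type u) hg) }
      have hF' : DepthGE k (ModuleCat.of A ((N : Type u) ⊗[A] (Fin q → A))) := by
        cases q with
        | zero => exact depthGE_of_isZero k (ModuleCat.isZero_of_subsingleton _)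
        | succ q =>
          rw [depthGE_iff k (ModuleCat.of A ((N : Type u) ⊗[A] (Fin (q + 1) → A)))]
          show (k : ℕ∞) ≤ LocCoh.depth A ((N : Type u) ⊗[A] (Fin (q + 1) → A))
          rw [Groth.Agent.Hensel.depth_congr (TensorProduct.piScalarRight A A (N : Type u) (Fin (q + 1))),
            Groth.Agent.FlatLoc6.depth_pi]
          exact (depthGE_iff k N).1 hN
      intro t ht
      exact Groth.Agent.LC.ext_subsingleton_X₃ hT' _ t (hF' t (by omega)) (hd (t + 1) (by omega))

end Vanish

section CM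

variable {A : Type u} [CommRing A] [IsRegularLocalRing A]

theorem depth_quot_eq (P : Ideal A) [LocCoh.IsCohenMacaulayLocalRing (A ⧸ P)] :
    ((LocCoh.depth A (A ⧸ P) : ℕ∞) : WithBot ℕ∞) = ringKrullDim (A ⧸ P) := by
  rw [Groth.Agent.Alg6.depth_eq_of_semilinear (Ideal.Quotient.mk P) Ideal.Quotient.mk_surjective
      (AddEquiv.refl _) (fun _ _ => rfl),
    ← Module.supportDim_self_eq_ringKrullDim, LocCoh.IsCohenMacaulayLocalRing.supportDim_eq_depth]

/-- Higher `Tor` of properly intersecting Cohen–Macaulay quotients vanishes. -/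
theorem tor_vanish_CM (P Q : Ideal A) [LocCoh.IsCohenMacaulayLocalRing (A ⧸ P)]
    [LocCoh.IsCohenMacaulayLocalRing (A ⧸ Q)] (hJ : ∃ n : ℕ, maximalIdeal A ^ n ≤ P ⊔ Q)
    (hdim : ringKrullDim A ≤ ringKrullDim (A ⧸ P) + ringKrullDim (A ⧸ Q)) :
    ∀ i : ℕ, 1 ≤ i → Limits.IsZero (((Tor (ModuleCat.{u} A) i).obj (ModuleCat.of A (A ⧸ Q))).obj
      (ModuleCat.of A (A ⧸ P))) := by
  obtain ⟨d, hd⟩ : ∃ d : ℕ, ringKrullDim A = d :=
    ⟨_, ((isRegularLocalRing_iff A).1 inferInstance).symm⟩
  haveI : Nontrivial (A ⧸ P) := inferInstance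
  haveI : Nontrivial (A ⧸ Q) := inferInstance
  obtain ⟨p, hp⟩ := Groth.Agent.LC.exists_depth_eq_nat (R := A) (A ⧸ P)
  obtain ⟨q, hq⟩ := Groth.Agent.LC.exists_depth_eq_nat (R := A) (A ⧸ Q)
  rw [hd, ← depth_quot_eq P, ← depth_quot_eq Q, hp, hq] at hdim
  have hdim' : d ≤ p + q := by exact_mod_cast hdim
  have hpd := Groth.Agent.LC.pdLE_of_le_depth A d hd (A ⧸ P) q (by rw [hp]; exact_mod_cast hdim')
  refine (tor_vanish (P ⊔ Q) hJ q (ModuleCat.of A (A ⧸ P)) inferInstance hpd (ModuleCat.of A (A ⧸ Q))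
    inferInstance q le_rfl ((depthGE_iff q _).2 hq.ge) fun i _ x hx z => ?_).1
  obtain ⟨a, ha, b, hb, rfl⟩ := Submodule.mem_sup.1 hx
  rw [add_smul, smul_tor_eq_zero' a (fun m => ?_) i z, smul_tor_eq_zero b (fun m => ?_) i z, add_zero]
  · obtain ⟨m, rfl⟩ := Submodule.Quotient.mk_surjective _ m
    rw [← Submodule.Quotient.mk_smul]
    exact (Submodule.Quotient.mk_eq_zero _).2 (Q.mul_mem_right m hb)
  · obtain ⟨m, rfl⟩ := Submodule.Quotient.mk_surjective _ m
    rw [← Submodule.Quotient.mk_smul]
    exact (Submodule.Quotient.mk_eq_zero _).2 (P.mul_mem_right m ha)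

end CM

end Groth.Agent.IntMultCartier
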