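import Groth.Agent.IntMultCartier.Transversal
import Groth.Agent.H23.StalkPrimes
import Groth.Agent.H23.GysinPb
import Groth.Agent.H23.FundCycle
import Groth.Agent.CycLib.Basic
import Mathlib

/-!
# Transversal intersections of subscheme cycles
-/

set_option autoImplicit false
set_option linter.style.haveILetI false
set_option maxHeartbeats 1000000
universe u

open CategoryTheory CategoryTheory.Limits AlgebraicGeometry IsLocalRing TopologicalSpace

namespace Groth.Agent.IntMultCartier

/-- Two ideals with sum the maximal ideal and complementary quotient dimensions give regular quotients. -/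
theorem regular_pair {A : Type u} [CommRing A] [IsRegularLocalRing A] (P Q : Ideal A)
    (h : P ⊔ Q = maximalIdeal A) {p q d : ℕ} (hd : ringKrullDim A = d) (hp : ringKrullDim (A ⧸ P) = p)
    (hq : ringKrullDim (A ⧸ Q) = q) (hpq : d ≤ p + q) :
    IsRegularLocalRing (A ⧸ P) ∧ IsRegularLocalRing (A ⧸ Q) := by
  obtain ⟨xs, ys, hxs, hys, hgen, hlen⟩ := exists_lists P Q h
  have hgen' : Ideal.ofList (ys ++ xs) = maximalIdeal A := by
    rw [← hgen, Ideal.ofList_append, Ideal.ofList_append, sup_comm]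
  have hlen' : ys.length + xs.length ≤ (maximalIdeal A).spanFinrank := by omega
  have hge : d ≤ xs.length + ys.length := by
    rw [← CAlgGlobalDim.spanFinrank_eq_of_dim A d hd, ← hgen]
    refine (Submodule.spanFinrank_span_le_ncard_of_finite (List.finite_toSet _)).trans ?_
    classical
    rw [← List.coe_toFinset, Set.ncard_coe_finset]
    exact (List.toFinset_card_le _).trans (by rw [List.length_append])
  rw [CAlgGlobalDim.spanFinrank_eq_of_dim A d hd] at hlen
  -- dimension of the two quotients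
  have bound : ∀ (R : Ideal A) (as bs : List A), Ideal.ofList (as ++ bs) = maximalIdeal A →
      as.length + bs.length ≤ (maximalIdeal A).spanFinrank → Ideal.ofList as ≤ R →
      ∀ r : ℕ, ringKrullDim (A ⧸ R) = r → r + as.length ≤ d := by
    intro R as bs hg hl hle r hr
    have hdim := (isRegularLocalRing_quot_ofList as bs hg hl).2
    rw [hd] at hdim
    have h1 : (r : WithBot ℕ∞) ≤ ringKrullDim (A ⧸ Ideal.ofList as) :=
      hr.symm.trans_le (ringKrullDim_le_of_surjective (Ideal.Quotient.factor hle) (Ideal.Quotient.factor_surjective hle))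
    have h2 := (add_le_add h1 le_rfl).trans hdim.le
    exact_mod_cast h2
  have hbp := bound P xs ys hgen (by rw [CAlgGlobalDim.spanFinrank_eq_of_dim A d hd]; exact hlen) (Ideal.span_le.2 hxs) p hp
  have hbq := bound Q ys xs hgen' hlen' (Ideal.span_le.2 hys) q hq
  have main : ∀ (R : Ideal A) (as bs : List A), Ideal.ofList (as ++ bs) = maximalIdeal A →
      as.length + bs.length ≤ (maximalIdeal A).spanFinrank → Ideal.ofList as ≤ R → R ≠ ⊤ →
      ∀ r : ℕ, ringKrullDim (A ⧸ R) = r → r + as.length = d → IsRegularLocalRing (A ⧸ R) := by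
    intro R as bs hg hl hle hne r hr hrd
    have hh := FormCat.height_add_ringKrullDim_quotient_regular A R hne
    rw [hr, hd] at hh
    obtain ⟨hreg, -⟩ := isRegularLocalRing_quot_ofList as bs hg hl
    obtain ⟨P', hP', hP'h⟩ : ∃ P' ∈ R.minimalPrimes, P'.height ≤ as.length := by
      by_contra hno
      push Not at hno
      have hle' : ((as.length + 1 : ℕ) : ℕ∞) ≤ R.height := by
        rw [Ideal.height_eq_inf_minimalPrimes]
        refine le_iInf₂ fun P' hP' => ?_
        rw [Nat.cast_add, Nat.cast_one]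
        exact (ENat.add_one_le_iff (ENat.natCast_ne_top _)).2 (hno P' hP')
      have h3 : ((r + (as.length + 1) : ℕ) : WithBot ℕ∞) ≤ (d : ℕ) := by
        rw [← hh, Nat.cast_add]
        exact add_le_add le_rfl (WithBot.coe_le_coe.2 hle')
      have : r + (as.length + 1) ≤ d := by exact_mod_cast h3
      omega
    haveI := hP'.1.1
    have hP'' := (eq_of_le_prime as bs hg hl P' (hle.trans hP'.1.2)).2 hP'h
    rw [show R = Ideal.ofList as from le_antisymm (hP'' ▸ hP'.1.2) hle]
    exact hreg
  have hPne : P ≠ ⊤ := fun e => (maximalIdeal.isMaximal A).ne_top (by rw [← h, e, top_sup_eq])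
  have hQne : Q ≠ ⊤ := fun e => (maximalIdeal.isMaximal A).ne_top (by rw [← h, e, sup_top_eq])
  exact ⟨main P xs ys hgen (by rw [CAlgGlobalDim.spanFinrank_eq_of_dim A d hd]; exact hlen) (Ideal.span_le.2 hxs) hPne p hp (by omega),
    main Q ys xs hgen' hlen' (Ideal.span_le.2 hys) hQne q hq (by omega)⟩

variable {X Y : Scheme.{u}}

/-- The stalk of the ideal of the closure of a point is the prime of that point. -/
theorem stalkIdeal_ptIdeal {x ξ : X} (h : ξ ⤳ x) :
    IntMult.stalkIdeal (IntMult.ptIdeal ξ) x = (CDiv6.primeOf h).asIdeal := by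
  obtain ⟨W, hW, hxW, -⟩ := exists_isAffineOpen_mem_and_subset (U := (⊤ : X.Opens)) (x := x) trivial
  let U : X.affineOpens := ⟨W, hW⟩
  rw [stalkIdeal_eq (IntMult.ptIdeal ξ) U hxW]
  letI : Algebra Γ(X, (U : X.Opens)) (X.presheaf.stalk x) := (X.presheaf.germ U x hxW).hom.toAlgebra
  haveI : IsLocalization.AtPrime (X.presheaf.stalk x) (hW.primeIdealOf ⟨x, hxW⟩).asIdeal :=
    hW.isLocalization_stalk ⟨x, hxW⟩
  have hc : hW.fromSpec (PrimeSpectrum.comap (algebraMap Γ(X, (U : X.Opens)) (X.presheaf.stalk x)) (CDiv6.primeOf h)) = ξ := by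
    have h1 : hW.fromSpecStalk hxW (CDiv6.primeOf h) = ξ := by
      rw [hW.fromSpecStalk_eq_fromSpecStalk]
      exact CDiv6.fromSpecStalk_primeOf h
    exact h1
  have hI : (IntMult.ptIdeal ξ).ideal U =
      (CDiv6.primeOf h).asIdeal.comap (algebraMap Γ(X, (U : X.Opens)) (X.presheaf.stalk x)) := by
    set p := PrimeSpectrum.comap (algebraMap Γ(X, (U : X.Opens)) (X.presheaf.stalk x)) (CDiv6.primeOf h)
    show _ = p.asIdeal
    show ((Scheme.IdealSheafData.vanishingIdeal ⟨closure {ξ}, isClosed_closure⟩).ideal U) = p.asIdeal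
    rw [Scheme.IdealSheafData.vanishingIdeal_ideal]
    have hmem : ∀ q : PrimeSpectrum Γ(X, (U : X.Opens)), hW.fromSpec q ∈ closure {ξ} ↔ p ≤ q := fun q => by
      rw [PrimeSpectrum.le_iff_specializes, ← specializes_iff_mem_closure, ← hc]
      exact hW.fromSpec.isOpenEmbedding.isInducing.specializes_iff
    refine le_antisymm (fun a ha => (PrimeSpectrum.mem_vanishingIdeal _ _).1 ha p ((hmem p).2 le_rfl)) fun a ha => ?_
    exact (PrimeSpectrum.mem_vanishingIdeal _ _).2 fun q hq => (hmem q).1 hq ha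
  rw [hI]
  exact IsLocalization.map_under (hW.primeIdealOf ⟨x, hxW⟩).asIdeal.primeCompl _ _

variable {δ : X → ℤ} (ι : Y ⟶ X) [IsClosedImmersion ι]

theorem isDimFun_comp (hd : Cyc.IsDimFun X δ) : Cyc.IsDimFun Y (fun y => δ (ι y)) := by
  intro a b hab hne
  obtain ⟨h1, h2⟩ := hd (ι a) (ι b) (hab.map ι.continuous) (fun e => hne (ι.isEmbedding.injective e))
  refine ⟨h1, fun himm => h2 fun z haz hzb => ?_⟩
  obtain ⟨c, rfl⟩ : z ∈ Set.range ι := haz.mem_closed ι.isClosedEmbedding.isClosed_range ⟨a, rfl⟩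
  exact (himm c (ι.isEmbedding.isInducing.specializes_iff.1 haz) (ι.isEmbedding.isInducing.specializes_iff.1 hzb)).imp
    (congrArg ι) (congrArg ι)

/-- Dimension of the local ring of a closed subscheme. -/
theorem dim_stalk_closed [IsLocallyNoetherian Y] (hd : Cyc.IsDimFun X δ) {r : ℤ}
    (hle : ∀ y : Y, δ (ι y) ≤ r) {y y' : Y} (h : y' ⤳ y) (hy' : δ (ι y') = r) :
    ringKrullDim (Y.presheaf.stalk y) = ((r - δ (ι y)).toNat : WithBot ℕ∞) := by
  have hd' := isDimFun_comp ι hd
  rw [DimFormula.ringKrullDim_stalk]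
  have h1 := DimFormula.cd_le_codim h
  have h2 := CycLib.cd_eq hd' h
  have h3 : DimFormula.codim y ≤ (r - δ (ι y)).toNat := by
    have : Order.coheight y ≤ ((r - δ (ι y)).toNat : ℕ∞) := by
      refine Order.coheight_le fun l hl => ?_
      have key : ∀ i : Fin (l.length + 1), δ (ι l.head) + (i : ℕ) ≤ δ (ι (l i)) := by
        intro i
        induction i using Fin.induction with
        | zero => simp [RelSeries.head]
        | succ j ih =>
          have hlt : l j.castSucc < l j.succ := l.step j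
          have hsp : l j.succ ⤳ l j.castSucc := hlt.le
          have := (hd' _ _ hsp fun e => hlt.ne e.symm).1
          dsimp only at this
          simp only [Fin.val_succ, Fin.val_castSucc, Nat.cast_add, Nat.cast_one] at ih ⊢
          omega
      have h4 := key (Fin.last _)
      have h5 := hle (l (Fin.last _))
      rw [hl] at h4
      simp only [Fin.val_last] at h4
      exact Nat.cast_le.2 (by omega)
    rw [← DimFormula.coe_codim] at this
    exact_mod_cast this
  have h4 : (DimFormula.cd y' y : ℤ) = δ (ι y') - δ (ι y) := h2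
  exact congrArg (fun m : ℕ => ((m : ℕ∞) : WithBot ℕ∞)) (le_antisymm h3 (by omega))

omit [IsClosedImmersion ι] in
theorem eq_of_subschemeFun_ne_zero {k : ℤ} {x : X} (h : Cyc.subschemeFun δ k ι x ≠ 0) :
    δ x = k ∧ ∃ y, ι y = x := by
  classical
  unfold Cyc.subschemeFun at h
  split_ifs at h with hk
  · obtain ⟨z, hz, -⟩ := exists_ne_zero_of_finsum_mem_ne_zero h
    exact ⟨hk, z, hz⟩
  · exact absurd rfl h

theorem subschemeFun_apply {k : ℤ} {y : Y} (hk : δ (ι y) = k) :
    Cyc.subschemeFun δ k ι (ι y) = ((Module.length (Y.presheaf.stalk y) (Y.presheaf.stalk y)).toNat : ℤ) := by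
  classical
  rw [Cyc.subschemeFun, if_pos hk,
    show {z : Y | ι z = ι y} = {y} from Set.ext fun z => ι.isEmbedding.injective.eq_iff, finsum_mem_singleton]

/-- The top cycle of a closed subscheme at a regular point. -/
theorem generic_data [IsLocallyNoetherian Y] (hd : Cyc.IsDimFun X δ) {r : ℤ} (hle : ∀ y : Y, δ (ι y) ≤ r)
    {y : Y} [IsDomain (Y.presheaf.stalk y)] (hex : ∃ y' : Y, y' ⤳ y ∧ δ (ι y') = r) :
    ∃ (g : Y) (h : ι g ⤳ ι y), (CDiv6.primeOf h).asIdeal = RingHom.ker (ι.stalkMap y).hom ∧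
      Cyc.subschemeFun δ r ι (ι g) = 1 ∧
      ∀ x : X, x ⤳ ι y → Cyc.subschemeFun δ r ι x ≠ 0 → x = ι g := by
  obtain ⟨g, hg, hgp⟩ := H23.StalkPrimes.exists_point (x := y) ⊥
  have hgen : ∀ y' : Y, y' ⤳ y → g ⤳ y' := fun y' h' =>
    (H23.StalkPrimes.primeOf_le_iff h' hg).1 (hgp.le.trans bot_le)
  have hd' := isDimFun_comp ι hd
  have huniq : ∀ y' : Y, y' ⤳ y → δ (ι y') = r → y' = g := fun y' h' hr => by
    by_contra hne
    have := (hd' g y' (hgen y' h') fun e => hne e.symm).1
    dsimp only at this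
    have := hle g
    omega
  obtain ⟨y₁, hy₁, hy₁r⟩ := hex
  have hgr : δ (ι g) = r := by rw [← huniq y₁ hy₁ hy₁r]; exact hy₁r
  refine ⟨g, hg.map ι.continuous, ?_, ?_, ?_⟩
  · rw [← H23.StalkPrimes.comap_primeOf ι hg, hgp]
    rfl
  · rw [subschemeFun_apply ι hgr]
    letI := (Y.presheaf.stalkSpecializes hg).hom.toAlgebra
    haveI := H23.StalkPrimes.isLocalization_primeOf hg
    haveI : IsFractionRing (Y.presheaf.stalk y) (Y.presheaf.stalk g) := by
      refine IsLocalization.of_le_of_exists_dvd ((CDiv6.primeOf hg).asIdeal.primeCompl) _ ?_ ?_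
      · intro a ha
        refine mem_nonZeroDivisors_of_ne_zero fun e => ha ?_
        rw [e]; exact zero_mem _
      · intro a ha
        refine ⟨a, ?_, dvd_rfl⟩
        intro hmem
        exact nonZeroDivisors.ne_zero ha (by simpa [hgp] using hmem)
    letI := IsFractionRing.toField (Y.presheaf.stalk y) (K := Y.presheaf.stalk g)
    rw [Module.length_eq_one]
    rfl
  · intro x hx hne
    obtain ⟨hxr, y', rfl⟩ := eq_of_subschemeFun_ne_zero ι hne
    rw [huniq y' (ι.isEmbedding.isInducing.specializes_iff.1 hx) hxr]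

theorem comap_primeOf_eqToHom {x x' ξ : X} (e : x' = x) (h : ξ ⤳ x') :
    (CDiv6.primeOf h).asIdeal.comap (X.presheaf.stalkSpecializes (specializes_of_eq e)).hom =
      (CDiv6.primeOf (h.trans (specializes_of_eq e))).asIdeal := by
  subst e
  rw [TopCat.Presheaf.stalkSpecializes_refl]
  exact Ideal.comap_id _

end Groth.Agent.IntMultCartier
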