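import Groth.Agent.IntMultCartier.CMTor
import Groth.Agent.IntMultCartier.Dim
import Groth.Agent.H23.TopDim
import Mathlib

/-!
# The Tor formula for properly intersecting Cohen–Macaulay subvarieties
-/

set_option autoImplicit false
set_option linter.style.haveILetI false
set_option maxHeartbeats 800000
universe u

open CategoryTheory AlgebraicGeometry IsLocalRing

namespace Groth.Agent.IntMultCartier

theorem fromSpecStalk_mem_support {X : Scheme.{u}} (I : X.IdealSheafData) (x : X)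
    (p : PrimeSpectrum (X.presheaf.stalk x)) (h : IntMult.stalkIdeal I x ≤ p.asIdeal) :
    X.fromSpecStalk x p ∈ I.support := by
  obtain ⟨W, hW, hxW, -⟩ := exists_isAffineOpen_mem_and_subset (U := (⊤ : X.Opens)) (x := x) trivial
  let U : X.affineOpens := ⟨W, hW⟩
  rw [← hW.fromSpecStalk_eq_fromSpecStalk hxW]
  refine (fromSpec_mem_support_iff I U _).2 ?_
  rw [stalkIdeal_eq I U hxW, Ideal.map_le_iff_le_comap] at h
  exact h

/-- At a component of the intersection the two ideals generate an ideal of definition. -/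
theorem exists_pow_le_sup {X : Scheme.{u}} [IsLocallyNoetherian X] (IV IW : X.IdealSheafData) {ξ : X}
    (hmax : ∀ ξ' : X, ξ' ∈ IV.support → ξ' ∈ IW.support → ξ' ⤳ ξ → ξ' = ξ) :
    ∃ m : ℕ, maximalIdeal (X.presheaf.stalk ξ) ^ m ≤ IntMult.stalkIdeal IV ξ ⊔ IntMult.stalkIdeal IW ξ := by
  refine Ideal.exists_pow_le_of_le_radical_of_fg ?_ (maximalIdeal _).fg_of_isNoetherianRing
  rw [Ideal.radical_eq_sInf]
  refine le_sInf fun p hp => ?_
  obtain ⟨hple, hpp⟩ := hp
  let P : PrimeSpectrum (X.presheaf.stalk ξ) := ⟨p, hpp⟩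
  have hsp : X.fromSpecStalk ξ P ⤳ ξ := (Scheme.range_fromSpecStalk (X := X) (x := ξ)).le ⟨P, rfl⟩
  have heq := hmax _ (fromSpecStalk_mem_support IV ξ P (le_sup_left.trans hple))
    (fromSpecStalk_mem_support IW ξ P (le_sup_right.trans hple)) hsp
  have hP : P = IsLocalRing.closedPoint _ :=
    (X.fromSpecStalk ξ).isEmbedding.injective (heq.trans Scheme.fromSpecStalk_closedPoint.symm)
  exact le_of_eq (congrArg PrimeSpectrum.asIdeal hP).symm

variable {K : Type u} [Field K] {X : Scheme.{u}} (f : X ⟶ Spec (CommRingCat.of K)) [LocallyOfFiniteType f]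
  [IsIntegral X] (IV IW : X.IdealSheafData) [IsIntegral IV.subscheme] [IsIntegral IW.subscheme] {n r s : ℕ}
  (hn : topologicalKrullDim X = n) (hr : topologicalKrullDim IV.support = r)
  (hs : topologicalKrullDim IW.support = s)
  (hprop : IntMult.ProperInt (IV.support : Set X) (IW.support : Set X) n r s) {ξ : X}
  (hξV : ξ ∈ IV.support) (hξW : ξ ∈ IW.support)
  (hmax : ∀ ξ' : X, ξ' ∈ IV.support → ξ' ∈ IW.support → ξ' ⤳ ξ → ξ' = ξ)
  [IsRegularLocalRing (X.presheaf.stalk ξ)]

include f hn hr hs hprop hξV hξW hmax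

/-- The Tor formula reduces to a length. -/
theorem mult_eq_length_of_isCM
    (hV : LocCoh.IsCohenMacaulayLocalRing (↑(X.presheaf.stalk ξ) ⧸ IntMult.stalkIdeal IV ξ))
    (hW : LocCoh.IsCohenMacaulayLocalRing (↑(X.presheaf.stalk ξ) ⧸ IntMult.stalkIdeal IW ξ)) :
    IntMult.mult IV IW ξ = (Module.length (X.presheaf.stalk ξ)
      (↑(X.presheaf.stalk ξ) ⧸ (IntMult.stalkIdeal IW ξ ⊔ IntMult.stalkIdeal IV ξ))).toNat := by
  haveI := stalkIdeal_isPrime IV hξV
  haveI := stalkIdeal_isPrime IW hξW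
  haveI := hV
  haveI := hW
  have hrad : maximalIdeal (X.presheaf.stalk ξ) ≤
      (IntMult.stalkIdeal IV ξ ⊔ IntMult.stalkIdeal IW ξ).radical := by
    rw [Ideal.radical_eq_sInf]
    refine le_sInf fun p hp => ?_
    obtain ⟨hple, hpp⟩ := hp
    let P : PrimeSpectrum (X.presheaf.stalk ξ) := ⟨p, hpp⟩
    have hsp : X.fromSpecStalk ξ P ⤳ ξ := by
      have := (Scheme.range_fromSpecStalk (X := X) (x := ξ)).le ⟨P, rfl⟩
      exact this
    have heq := hmax _ (fromSpecStalk_mem_support IV ξ P (le_sup_left.trans hple))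
      (fromSpecStalk_mem_support IW ξ P (le_sup_right.trans hple)) hsp
    have hP : P = IsLocalRing.closedPoint _ :=
      (X.fromSpecStalk ξ).isEmbedding.injective (heq.trans Scheme.fromSpecStalk_closedPoint.symm)
    exact le_of_eq (congrArg PrimeSpectrum.asIdeal hP).symm
  have hJ : ∃ m : ℕ, maximalIdeal (X.presheaf.stalk ξ) ^ m ≤
      IntMult.stalkIdeal IV ξ ⊔ IntMult.stalkIdeal IW ξ :=
    Ideal.exists_pow_le_of_le_radical_of_fg hrad (maximalIdeal _).fg_of_isNoetherianRing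
  obtain ⟨a, ha, har⟩ := height_stalkIdeal f hn IV hr hξV
  obtain ⟨b, hb, hbs⟩ := height_stalkIdeal f hn IW hs hξW
  obtain ⟨d, hd, hdn⟩ := dim_stalk f hn ξ
  obtain ⟨h1, h2⟩ := hprop ⟨ξ, hξV, hξW⟩
  have hc : VarDim.deg f ξ ≤ r + s - n := by
    have h3 := (dim_closure f ξ).symm.trans_le ((H23.TopDim.dim_le_dim_of_subset
      (closure_minimal (Set.singleton_subset_iff.2 (show ξ ∈ (IV.support : Set X) ∩ IW.support from ⟨hξV, hξW⟩))
        (IV.support.isClosed.inter IW.support.isClosed))).trans h2)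
    exact_mod_cast h3
  have hp := FormCat.height_add_ringKrullDim_quotient_regular _ (IntMult.stalkIdeal IV ξ) Ideal.IsPrime.ne_top'
  have hq := FormCat.height_add_ringKrullDim_quotient_regular _ (IntMult.stalkIdeal IW ξ) Ideal.IsPrime.ne_top'
  rw [ha, hd, ← depth_quot_eq] at hp
  rw [hb, hd, ← depth_quot_eq] at hq
  obtain ⟨p, hp'⟩ := LC.exists_depth_eq_nat (R := X.presheaf.stalk ξ)
    (↑(X.presheaf.stalk ξ) ⧸ IntMult.stalkIdeal IV ξ)
  obtain ⟨q, hq'⟩ := LC.exists_depth_eq_nat (R := X.presheaf.stalk ξ)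
    (↑(X.presheaf.stalk ξ) ⧸ IntMult.stalkIdeal IW ξ)
  rw [hp'] at hp
  rw [hq'] at hq
  have hp2 : p + a = d := by exact_mod_cast hp
  have hq2 : q + b = d := by exact_mod_cast hq
  have hdim : ringKrullDim (X.presheaf.stalk ξ) ≤
      ringKrullDim (↑(X.presheaf.stalk ξ) ⧸ IntMult.stalkIdeal IV ξ) +
        ringKrullDim (↑(X.presheaf.stalk ξ) ⧸ IntMult.stalkIdeal IW ξ) := by
    rw [hd, ← depth_quot_eq, ← depth_quot_eq, hp', hq']
    exact_mod_cast (show d ≤ p + q by omega)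
  exact chi_eq_of_isZero _ _ (tor_vanish_CM _ _ hJ hdim)

end Groth.Agent.IntMultCartier
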