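import Groth.Agent.IntMultCartier.Basic
import Groth.Agent.CAlgGlobalDim.RegSeq
import Groth.Agent.FormCat.Equidim
import Mathlib

/-!
# Transversal primes in a regular local ring
-/

set_option autoImplicit false
set_option linter.style.haveILetI false
set_option maxHeartbeats 800000
universe u

open CategoryTheory IsLocalRing RingTheory.Sequence

namespace Groth.Agent.IntMultCartier

variable {A : Type u} [CommRing A] [IsRegularLocalRing A]

omit [IsRegularLocalRing A] in
/-- Few elements of a generating set of the maximal ideal suffice. -/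
theorem exists_lists [IsLocalRing A] [IsNoetherianRing A] (P Q : Ideal A) (h : P ⊔ Q = maximalIdeal A) :
    ∃ xs ys : List A, (∀ x ∈ xs, x ∈ P) ∧ (∀ y ∈ ys, y ∈ Q) ∧
      Ideal.ofList (xs ++ ys) = maximalIdeal A ∧ xs.length + ys.length ≤ (maximalIdeal A).spanFinrank := by
  classical
  let s : Set (maximalIdeal A) := {z | (z : A) ∈ P ∨ (z : A) ∈ Q}
  have hs : Submodule.span A s = ⊤ := by
    apply Submodule.map_injective_of_injective (Submodule.injective_subtype (maximalIdeal A))
    rw [Submodule.map_top, Submodule.range_subtype, Submodule.map_span]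
    refine le_antisymm (Submodule.span_le.2 (by rintro _ ⟨z, -, rfl⟩; exact z.2)) ?_
    refine h.symm.le.trans (sup_le ?_ ?_) <;> intro z hz
    · exact Submodule.subset_span ⟨⟨z, h.le (le_sup_left (α := Ideal A) hz)⟩, Or.inl hz, rfl⟩
    · exact Submodule.subset_span ⟨⟨z, h.le (le_sup_right (α := Ideal A) hz)⟩, Or.inr hz, rfl⟩
  have hT := CotangentSpace.span_image_eq_top_iff.2 hs
  obtain ⟨t, ht_sub, ht_span, ht_ind⟩ :=
    exists_linearIndependent (ResidueField A) ((maximalIdeal A).toCotangent '' s)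
  rw [hT] at ht_span
  obtain ⟨t', ht's, hbij⟩ := Set.SurjOn.exists_bijOn_subset
    (f := (maximalIdeal A).toCotangent) (s := s) (t := t) ht_sub
  have hgen : Submodule.span A t' = ⊤ := by
    refine CotangentSpace.span_image_eq_top_iff.1 ?_
    rw [hbij.image_eq]
    exact ht_span
  haveI : Finite t := ht_ind.finite
  haveI : Finite t' := Finite.of_injective hbij.mapsTo.restrict ((Set.MapsTo.restrict_inj hbij.mapsTo).2 hbij.injOn)
  have htf : t'.Finite := Set.toFinite t'
  have hcard : t'.ncard ≤ (maximalIdeal A).spanFinrank := by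
    rw [IsLocalRing.spanFinrank_maximalIdeal_eq_finrank_cotangentSpace, Set.ncard_eq_toFinset_card _ htf]
    have h1 := hbij.image_eq
    haveI := Fintype.ofFinite t
    have h2 : t.ncard = t'.ncard := by rw [← h1, hbij.injOn.ncard_image]
    rw [← Set.ncard_eq_toFinset_card _ htf, ← h2, Set.ncard_eq_toFinset_card']
    exact (Set.toFinset_card t).le.trans ht_ind.fintype_card_le_finrank
  let l : List A := htf.toFinset.toList.map Subtype.val
  refine ⟨l.filter (· ∈ P), l.filter (· ∉ P), fun x hx => by simpa using (List.mem_filter.1 hx).2,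
    fun y hy => ?_, ?_, ?_⟩
  · obtain ⟨hy1, hy2⟩ := List.mem_filter.1 hy
    obtain ⟨z, hz, rfl⟩ := List.mem_map.1 hy1
    exact (ht's (by simpa using hz)).resolve_left (by simpa using hy2)
  · have h1 := congrArg (Submodule.map (maximalIdeal A).subtype) hgen
    rw [Submodule.map_top, Submodule.range_subtype, Submodule.map_span] at h1
    refine Eq.trans (congrArg Ideal.span (Set.ext fun a => ?_)) h1
    simp only [Set.mem_ofPred_eq, List.mem_append, List.mem_filter, decide_eq_true_eq, l, List.mem_map,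
      Finset.mem_toList, Set.Finite.mem_toFinset, Submodule.coe_subtype, Set.mem_image]
    exact ⟨fun hh => hh.elim And.left And.left, fun hh => (em _).imp (And.intro hh) (And.intro hh)⟩
  · have hlen : ∀ m : List A, (m.filter (· ∈ P)).length + (m.filter (· ∉ P)).length = m.length := by
      intro m
      induction m with
      | nil => rfl
      | cons a m ih => by_cases ha : a ∈ P <;> simp [ha] at ih ⊢ <;> omega
    rw [hlen, List.length_map, Finset.length_toList, ← Set.ncard_eq_toFinset_card _ htf]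
    exact hcard

theorem isRegularLocalRing_quot_ofList (xs ys : List A) (hgen : Ideal.ofList (xs ++ ys) = maximalIdeal A)
    (hlen : xs.length + ys.length ≤ (maximalIdeal A).spanFinrank) :
    IsRegularLocalRing (A ⧸ Ideal.ofList xs) ∧
      ringKrullDim (A ⧸ Ideal.ofList xs) + (xs.length : WithBot ℕ∞) = ringKrullDim A := by
  classical
  have hmem : ∀ r ∈ xs, r ∈ maximalIdeal A := fun r hr =>
    hgen ▸ Ideal.subset_span (List.mem_append_left ys hr)
  have hw : IsWeaklyRegular A (xs ++ ys) := CAlgGlobalDim.isWeaklyRegular_of_generators _ A _ rfl hgen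
    (by rw [List.length_append]; exact hlen)
  have hdim := ringKrullDim_add_length_eq_ringKrullDim_of_isRegular xs
    (RegLoc6.isRegular_iff_weakly xs hmem ((isWeaklyRegular_append_iff A xs ys).1 hw).1)
  have hle : Ideal.ofList xs ≤ maximalIdeal A := Ideal.span_le.2 hmem
  have hne : Ideal.ofList xs ≠ ⊤ := ne_top_of_le_ne_top (maximalIdeal.isMaximal A).ne_top hle
  haveI := Ideal.Quotient.nontrivial_iff.2 hne
  haveI : IsLocalRing (A ⧸ Ideal.ofList xs) :=
    IsLocalRing.of_surjective' (Ideal.Quotient.mk _) Ideal.Quotient.mk_surjective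
  refine ⟨IsRegularLocalRing.of_spanFinrank_maximalIdeal_le _ ?_, hdim⟩
  obtain ⟨d, hd⟩ : ∃ d : ℕ, ringKrullDim A = d :=
    ⟨_, ((isRegularLocalRing_iff A).1 inferInstance).symm⟩
  obtain ⟨D, hD⟩ := Groth.Agent.LC.exists_supportDim_eq_nat (R := A ⧸ Ideal.ofList xs) (A ⧸ Ideal.ofList xs)
  rw [Module.supportDim_self_eq_ringKrullDim] at hD
  rw [hD, hd] at hdim
  have hD' : D + xs.length = d := by exact_mod_cast hdim
  rw [hD, Nat.cast_le, ← RegLoc6.map_maximalIdeal_quot (Ideal.ofList xs), ← hgen, Ideal.ofList_append,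
    Ideal.map_sup, Ideal.map_quotient_self, bot_sup_eq, Ideal.map_ofList]
  rw [CAlgGlobalDim.spanFinrank_eq_of_dim A d hd] at hlen
  refine (Submodule.spanFinrank_span_le_ncard_of_finite (List.finite_toSet _)).trans ?_
  rw [← List.coe_toFinset, Set.ncard_coe_finset]
  exact (List.toFinset_card_le _).trans (by rw [List.length_map]; omega)

theorem eq_of_le_prime (xs ys : List A) (hgen : Ideal.ofList (xs ++ ys) = maximalIdeal A)
    (hlen : xs.length + ys.length ≤ (maximalIdeal A).spanFinrank) (P : Ideal A) [P.IsPrime]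
    (hle : Ideal.ofList xs ≤ P) :
    (xs.length : ℕ∞) ≤ P.height ∧ (P.height ≤ xs.length → P = Ideal.ofList xs) := by
  obtain ⟨hreg, hdim⟩ := isRegularLocalRing_quot_ofList xs ys hgen hlen
  haveI := RegLoc6.isDomain_of_isRegularLocalRing (A ⧸ Ideal.ofList xs)
  haveI : (Ideal.ofList xs).IsPrime := (Ideal.Quotient.isDomain_iff_prime _).1 inferInstance
  have hX := FormCat.height_add_ringKrullDim_quotient_regular A (Ideal.ofList xs) Ideal.IsPrime.ne_top'
  rw [← hdim] at hX
  have hX' : (Ideal.ofList xs).height = (xs.length : ℕ∞) := by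
    obtain ⟨D, hD⟩ := Groth.Agent.LC.exists_supportDim_eq_nat (R := A ⧸ Ideal.ofList xs) (A ⧸ Ideal.ofList xs)
    rw [Module.supportDim_self_eq_ringKrullDim] at hD
    rw [hD] at hX
    generalize (Ideal.ofList xs).height = e at hX
    induction e using ENat.recTopCoe with
    | top =>
      exfalso
      have hX' : ((D : ℕ∞) + ⊤) = (D : ℕ∞) + (xs.length : ℕ∞) := by exact_mod_cast hX
      simp at hX'
      exact ENat.coe_ne_top (D + xs.length) (by push_cast; exact hX'.symm)
    | coe e =>
      have hX' : D + e = D + xs.length := by exact_mod_cast hX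
      exact_mod_cast (by omega : e = xs.length)
  refine ⟨hX' ▸ Ideal.height_mono hle, fun hP => le_antisymm ?_ hle⟩
  by_contra hne
  have hlt : Ideal.ofList xs < P := lt_of_le_not_ge hle hne
  have h1 := Ideal.height_strict_mono_of_isPrime hlt
  rw [hX'] at h1
  exact (h1.trans_le hP).false

/-- Primes `P`, `Q` of small height generating the maximal ideal of a regular local ring. -/
theorem transversal (P Q : Ideal A) [P.IsPrime] [Q.IsPrime] (h : P ⊔ Q = maximalIdeal A) {a b : ℕ}
    (ha : P.height = a) (hb : Q.height = b) (hab : ((a + b : ℕ) : WithBot ℕ∞) ≤ ringKrullDim A) :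
    IsRegularLocalRing (A ⧸ P) ∧ IsRegularLocalRing (A ⧸ Q) ∧
      IntMult.chi A (A ⧸ Q) (A ⧸ P) = 1 := by
  obtain ⟨d, hd⟩ : ∃ d : ℕ, ringKrullDim A = d :=
    ⟨_, ((isRegularLocalRing_iff A).1 inferInstance).symm⟩
  have hsd := CAlgGlobalDim.spanFinrank_eq_of_dim A d hd
  obtain ⟨xs, ys, hxs, hys, hgen, hlen⟩ := exists_lists P Q h
  have hgen' : Ideal.ofList (ys ++ xs) = maximalIdeal A := by
    rw [← hgen, Ideal.ofList_append, Ideal.ofList_append, sup_comm]
  have hlen' : ys.length + xs.length ≤ (maximalIdeal A).spanFinrank := by omega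
  have hge : d ≤ xs.length + ys.length := by
    rw [← hsd, ← hgen]
    refine (Submodule.spanFinrank_span_le_ncard_of_finite (List.finite_toSet _)).trans ?_
    classical
    rw [← List.coe_toFinset, Set.ncard_coe_finset]
    exact (List.toFinset_card_le _).trans (by rw [List.length_append])
  obtain ⟨hP1, hP2⟩ := eq_of_le_prime xs ys hgen hlen P (Ideal.span_le.2 hxs)
  obtain ⟨hQ1, hQ2⟩ := eq_of_le_prime ys xs hgen' hlen' Q (Ideal.span_le.2 hys)
  rw [ha] at hP1 hP2
  rw [hb] at hQ1 hQ2
  rw [hd] at hab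
  have hab' : a + b ≤ d := by exact_mod_cast hab
  have hxa : xs.length ≤ a := by exact_mod_cast hP1
  have hyb : ys.length ≤ b := by exact_mod_cast hQ1
  have hP := hP2 (by exact_mod_cast (show a ≤ xs.length by omega))
  have hQ := hQ2 (by exact_mod_cast (show b ≤ ys.length by omega))
  obtain ⟨hPreg, -⟩ := isRegularLocalRing_quot_ofList xs ys hgen hlen
  obtain ⟨hQreg, hQdim⟩ := isRegularLocalRing_quot_ofList ys xs hgen' hlen'
  rw [← hP] at hPreg
  rw [← hQ] at hQreg hQdim
  refine ⟨hPreg, hQreg, ?_⟩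
  have hw : IsWeaklyRegular A xs := ((isWeaklyRegular_append_iff A xs ys).1
    (CAlgGlobalDim.isWeaklyRegular_of_generators _ A _ rfl hgen (by rw [List.length_append]; exact hlen))).1
  have hwQ : IsWeaklyRegular (A ⧸ Q) (xs.map (Ideal.Quotient.mk Q)) := by
    have hD : (maximalIdeal (A ⧸ Q)).spanFinrank + ys.length = d := by
      have h1 := hQdim
      rw [hd, ← (isRegularLocalRing_iff (A ⧸ Q)).1 hQreg] at h1
      exact_mod_cast h1
    refine CAlgGlobalDim.isWeaklyRegular_of_generators _ (A ⧸ Q) _ rfl ?_ (by rw [List.length_map]; omega)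
    rw [← Ideal.map_ofList, ← RegLoc6.map_maximalIdeal_quot Q, ← hgen, Ideal.ofList_append, ← hQ,
      Ideal.map_sup, Ideal.map_quotient_self, sup_bot_eq]
  let x : Fin xs.length → A := fun i => xs[i]
  have hl : List.ofFn x = xs := List.ofFn_getElem
  have hr : Ideal.span (Set.range x) = P := by
    rw [← CAlgGlobalDim.ofList_ofFn, hl, hP]
  have hPQ : P ⊔ Q ≠ ⊤ := h ▸ (maximalIdeal.isMaximal A).ne_top
  have hz : ∀ i : ℕ, 1 ≤ i → Limits.IsZero (((Tor (ModuleCat.{u} A) i).obj
      (ModuleCat.of A (A ⧸ Q))).obj (ModuleCat.of A (A ⧸ P))) := by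
    intro i hi
    have h1 := (Groth.Agent.S16238.result A xs.length x (hl.symm ▸ hw) Q (by rw [hr]; exact hPQ)).1
      (by
        rw [show List.ofFn (fun i => Ideal.Quotient.mk Q (x i)) = (List.ofFn x).map (Ideal.Quotient.mk Q)
          from List.map_ofFn.symm, hl]
        exact hwQ) i hi
    rw [hr] at h1
    obtain ⟨e⟩ := Groth.Agent.CAlgOdd.TorSymm.nonempty_flip (R := A) i
    exact h1.of_iso ((e.app (ModuleCat.of A (A ⧸ Q))).app (ModuleCat.of A (A ⧸ P)))
  rw [chi_eq_of_isZero Q P hz, sup_comm, h]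
  haveI : IsSimpleModule A (A ⧸ maximalIdeal A) :=
    isSimpleModule_iff_quot_maximal.2 ⟨_, maximalIdeal.isMaximal A, ⟨LinearEquiv.refl _ _⟩⟩
  rw [Module.length_eq_one]
  rfl

end Groth.Agent.IntMultCartier
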